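import Cfsg.Agent.H701.S8.Gen
import Cfsg.Agent.H858.S8.J3Solv
import Cfsg.Agent.H677.J3Field
import Cfsg.Agent.NotCT.Orders
import Cfsg.Agent.S0000

/-!
# S4908, the box `J₃ / SOC1` (helper189)

`soc1_j3` : an almost simple group whose degrees are degrees of `J₃` or of `Aut J₃` has socle `J₃`.
The degrees are prime to 7, 11 and 13, and no degree is a prime power.
-/

set_option autoImplicit false

namespace Cfsg.Agent.H189.S8

open Cfsg Subgroup
open Cfsg.Agent.H691.AN (AlmostSimple)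
open Cfsg.Agent.H704.S8 (Deg Soc1)
open Cfsg.Agent.H858.S8 (Adm deg_sub)

universe u v

/-- the degrees divide `2 |J₃|` -/
theorem adm_dvd : (Adm.all fun d => Nat.beq (100465920 % d) 0) = true := by decide +kernel

/-- no degree is a prime power -/
theorem adm_pp : (Adm.all fun d => Nat.beq d 1 || (Nat.beq (d % 2) 0 && Nat.beq (d % 3) 0) ||
    (Nat.beq (d % 2) 0 && Nat.beq (d % 5) 0) || (Nat.beq (d % 2) 0 && Nat.beq (d % 17) 0) ||
    (Nat.beq (d % 2) 0 && Nat.beq (d % 19) 0) || (Nat.beq (d % 3) 0 && Nat.beq (d % 17) 0) ||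
    (Nat.beq (d % 3) 0 && Nat.beq (d % 19) 0) || (Nat.beq (d % 5) 0 && Nat.beq (d % 17) 0) ||
    (Nat.beq (d % 3) 0 && Nat.beq (d % 5) 0) || (Nat.beq (d % 17) 0 && Nat.beq (d % 19) 0) ||
    (Nat.beq (d % 5) 0 && Nat.beq (d % 19) 0)) = true := by
  decide +kernel

/-- the degrees of the small alternating groups are not degrees of `J₃` -/
theorem adm_alt : ∀ d ∈ ([4, 8, 16, 5, 10, 20] : List ℕ), d ∉ Adm := by decide +kernel

theorem not_pp {p k : ℕ} (hp : p.Prime) (hk : 0 < k) (h : p ^ k ∈ Adm) : False := by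
  have key : ∀ q r : ℕ, q.Prime → r.Prime → q ≠ r → Nat.beq (p ^ k % q) 0 = true → Nat.beq (p ^ k % r) 0 = true →
      False := by
    intro q r hq hr hqr h1 h2
    have h3 := (Nat.prime_dvd_prime_iff_eq hq hp).1 (hq.dvd_of_dvd_pow (Nat.dvd_of_mod_eq_zero (Nat.eq_of_beq_eq_true h1)))
    have h4 := (Nat.prime_dvd_prime_iff_eq hr hp).1 (hr.dvd_of_dvd_pow (Nat.dvd_of_mod_eq_zero (Nat.eq_of_beq_eq_true h2)))
    exact hqr (h3.trans h4.symm)
  have h1 := List.all_eq_true.1 adm_pp _ h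
  simp only [Bool.or_eq_true, Bool.and_eq_true] at h1
  rcases h1 with (((((((((h1 | ⟨h1, h2⟩) | ⟨h1, h2⟩) | ⟨h1, h2⟩) | ⟨h1, h2⟩) | ⟨h1, h2⟩) | ⟨h1, h2⟩) | ⟨h1, h2⟩) |
    ⟨h1, h2⟩) | ⟨h1, h2⟩) | ⟨h1, h2⟩
  · exact absurd (Nat.eq_of_beq_eq_true h1) (Nat.one_lt_pow hk.ne' hp.one_lt).ne'
  · exact key 2 3 (by norm_num) (by norm_num) (by norm_num) h1 h2
  · exact key 2 5 (by norm_num) (by norm_num) (by norm_num) h1 h2
  · exact key 2 17 (by norm_num) (by norm_num) (by norm_num) h1 h2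
  · exact key 2 19 (by norm_num) (by norm_num) (by norm_num) h1 h2
  · exact key 3 17 (by norm_num) (by norm_num) (by norm_num) h1 h2
  · exact key 3 19 (by norm_num) (by norm_num) (by norm_num) h1 h2
  · exact key 5 17 (by norm_num) (by norm_num) (by norm_num) h1 h2
  · exact key 3 5 (by norm_num) (by norm_num) (by norm_num) h1 h2
  · exact key 17 19 (by norm_num) (by norm_num) (by norm_num) h1 h2
  · exact key 5 19 (by norm_num) (by norm_num) (by norm_num) h1 h2

/-- **The box `J₃ / SOC1` of S4908.** -/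
theorem soc1_j3 {X : Type v} [Group X] [Finite X] (hX : Spor.IsoJ3 X) (D : Set ℕ) (hD : Deg 2 X D) :
    Soc1.{u} D X := by
  have hadm := deg_sub hX hD
  have hdvd : ∀ d ∈ D, d ∣ 100465920 := fun d hd =>
    Nat.dvd_of_mod_eq_zero (Nat.eq_of_beq_eq_true (List.all_eq_true.1 adm_dvd d (hadm d hd)))
  intro A _ _ S hA hAD
  have hs := hA.simple
  have kp : ∀ {p : ℕ}, p.Prime → ¬ p ∣ 100465920 → p ∣ Nat.card S → False :=
    fun hp h1 h2 => H701.S8.kill_prime hA hAD hdvd hp h1 h2
  have k7 : 7 ∣ Nat.card S → False := kp (by norm_num) (by norm_num)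
  have k11 : 11 ∣ Nat.card S → False := kp (by norm_num) (by norm_num)
  rcases PreUniq.known_cases (Cfsg.Agent.S0000.result (G := S)) with h | ⟨m, hm, ⟨e⟩⟩ | ⟨p, hp, h⟩ | h | h
  · exfalso
    have : Fact (Nat.card S).Prime := ⟨h⟩
    have : IsCyclic S := isCyclic_of_prime_card (p := Nat.card S) rfl
    exact hA.nonab inferInstance
  · exfalso
    have h7 : m < 7 := by
      by_contra hcon
      apply k7
      rw [Nat.card_congr e.toEquiv]
      have h1 := H548.RowAlt.card_alt (n := m) (by omega)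
      have h2 : 7 ∣ m.factorial := (Nat.Prime.dvd_factorial (by norm_num)).2 (by omega)
      rw [← h1] at h2
      exact (Nat.Coprime.dvd_mul_left (by norm_num)).1 h2
    obtain ⟨t, ht, htD⟩ := H701.S8.alt hA hAD hm e
    have h4 : t = 1 ∨ t = 2 ∨ t = 4 := by
      have h5 := Nat.le_of_dvd (by norm_num) ht
      interval_cases t <;> simp_all
    have h5 : m = 5 ∨ m = 6 := by omega
    refine adm_alt _ ?_ (hadm _ htD)
    rcases h5 with rfl | rfl <;> rcases h4 with rfl | rfl | rfl <;> decide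
  · exfalso
    obtain ⟨k, hk, hkD⟩ := H701.S8.lie hA hAD hp h
    exact not_pp hp hk (hadm _ hkD)
  · exact (kp (p := 13) (by norm_num) (by norm_num) (by rw [NotCT.Orders.tits h]; norm_num)).elim
  · rcases h with h | h | h | h | h | h | h | h | h | h | h | h | h | h | h | h | h | h | h | h | h | h | h | h | h | h
    · exact (k11 (by rw [NotCT.Orders.m11 h]; norm_num)).elim
    · exact (k11 (by rw [NotCT.Orders.m12 h]; norm_num)).elim
    · exact (k7 (by rw [NotCT.Orders.m22 h]; norm_num)).elim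
    · exact (k7 (by rw [NotCT.Orders.m23 h]; norm_num)).elim
    · exact (k7 (by rw [NotCT.Orders.m24 h]; norm_num)).elim
    · exact (k7 (by rw [NotCT.Orders.j1 h]; norm_num)).elim
    · exact (k7 (by rw [NotCT.Orders.j2 h]; norm_num)).elim
    · exact Cfsg.Agent.H677.J3Field.isoJ3_unique h hX
    · exact (k7 (by rw [NotCT.Orders.j4 h]; norm_num)).elim
    · exact (k7 (by rw [NotCT.Orders.co1 h]; norm_num)).elim
    · exact (k7 (by rw [NotCT.Orders.co2 h]; norm_num)).elim
    · exact (k7 (by rw [NotCT.Orders.co3 h]; norm_num)).elim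
    · exact (k7 (by rw [NotCT.Orders.mcl h]; norm_num)).elim
    · exact (k7 (by rw [NotCT.Orders.hs h]; norm_num)).elim
    · exact (k7 (by rw [NotCT.Orders.suz h]; norm_num)).elim
    · exact (k7 (by rw [NotCT.Orders.he h]; norm_num)).elim
    · exact (k7 (by rw [NotCT.Orders.ru h]; norm_num)).elim
    · exact (k7 (by rw [NotCT.Orders.on h]; norm_num)).elim
    · exact (k7 (by rw [NotCT.Orders.ly h]; norm_num)).elim
    · exact (k7 (by rw [NotCT.Orders.fi22 h]; norm_num)).elim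
    · exact (k7 (by rw [NotCT.Orders.fi23 h]; norm_num)).elim
    · exact (k7 (by rw [NotCT.Orders.fi24 h]; norm_num)).elim
    · exact (k7 (by rw [NotCT.Orders.hn h]; norm_num)).elim
    · exact (k7 (by rw [NotCT.Orders.th h]; norm_num)).elim
    · exact (k7 (by rw [NotCT.Orders.b h]; norm_num)).elim
    · exact (k7 (by rw [NotCT.Orders.m h]; norm_num)).elim

end Cfsg.Agent.H189.S8
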