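import Cfsg.Agent.H701.S8.Gen
import Cfsg.Agent.H393.S8.ON
import Cfsg.Agent.H30.ConstVal
import Cfsg.Agent.S0000
import Cfsg.Agent.H149.Sp.Base
import Cfsg.Agent.H603.FD.Spor
import Cfsg.Agent.H672.SporIM.RankRows
import Cfsg.Agent.H765.DS.HSMcL
import Cfsg.Agent.H815.S8.J1Deg
import Cfsg.Agent.H492.IMHN
import Cfsg.Agent.NotCT.Orders

/-!
# S4908, the box `O'N / SOC1` (helper189)

`soc1_on` : an almost simple group whose degrees are degrees of `O'N` or of `Aut O'N` has socle `O'N`.
-/

set_option autoImplicit false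

namespace Cfsg.Agent.H189.S8

open Cfsg Subgroup
open Cfsg.Agent.H691.AN (AlmostSimple)
open Cfsg.Agent.H704.S8 (Deg Soc1)
open Cfsg.Agent.H393.S8.ON (Adm Adm2 PP prime_PP adm_of_mem adm2_of_mem down deg_model)

universe u v

namespace ON

/-- 32 is not a degree of `O'N`: there is a subgroup of order 81 with all elements ≠ 1 conjugate -/
theorem no_32 : 32 ∉ charDegrees Spor.ON := by
  have hs := Cfsg.Agent.H393.S8.ON.simple
  obtain ⟨Δ⟩ := H210.On7.exists_data
  intro h
  obtain ⟨χ, hχ, h1⟩ := H424.DegTools.mem_charDegrees.1 h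
  have hz1 : Δ.z ≠ 1 := by
    intro h2
    have h3 := Δ.oz
    rw [h2, orderOf_one] at h3
    norm_num at h3
  have hE : Δ.E ≠ ⊥ := by
    intro h2
    have h3 := Δ.cardE
    rw [h2, Subgroup.card_bot] at h3
    norm_num at h3
  have hc : ∀ x ∈ Δ.E, x ≠ 1 → χ x = χ Δ.z := fun x hx hx1 =>
    Cfsg.Agent.Characters.Core.classFunction_apply_eq
      (Cfsg.Agent.Characters.Core.isIrr_isClassFunction hχ) (Δ.c3 x (Δ.expE x hx hx1))
  obtain ⟨k, hk, h2⟩ := H30.ConstVal.exists_int (Cfsg.Agent.Characters.Core.isIrr_isCharacter hχ) Δ.E hE (χ Δ.z) hc 32 h1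
  rcases h2 with h2 | h2
  · have h3 := H30.ConstVal.eq_one_of_apply_eq hχ hz1 (by
      rw [hk, h1, h2]
      push_cast
      rfl)
    rw [h3] at h1
    norm_num at h1
  · rw [Δ.cardE] at h2
    obtain ⟨n, ρ, hρ, rfl⟩ := hχ
    have hfin : Module.finrank ℂ (Fin n → ℂ) = 32 := by
      have h4 : ρ.character 1 = (Module.finrank ℂ (Fin n → ℂ) : ℂ) := Representation.char_one ρ
      rw [h1] at h4
      exact_mod_cast h4.symm
    have h3 := Cfsg.Agent.Characters.Values.norm_character_le ρ Δ.z
    rw [hk, hfin] at h3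
    have h6 : ‖(k : ℂ)‖ = |(k : ℝ)| := by
      rw [← Complex.ofReal_intCast, Complex.norm_real, Real.norm_eq_abs]
    rw [h6] at h3
    have h7 := (neg_le_abs (k : ℝ)).trans h3
    have h8 : -k ≤ 32 := by exact_mod_cast h7
    omega

/-- the candidates -/
def ok (d : ℕ) : Bool := Adm2.contains d && !(Nat.beq d 32) && !(Nat.beq d 64)

theorem adm_64 : 64 ∉ Adm := by decide +kernel

theorem adm_16 : 16 ∉ Adm := by decide +kernel

theorem ok_of {X : Type v} [Group X] (hX : Spor.IsoON X) {D : Set ℕ} (hD : Deg 2 X D) {d : ℕ} (hd : d ∈ D) :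
    ok d = true := by
  have key : d ∈ Adm2 ∧ d ≠ 32 ∧ d ≠ 64 := by
    rcases deg_model hX hD with rfl | ⟨-, rfl⟩
    · refine ⟨List.mem_append_left _ (adm_of_mem hd), ?_, ?_⟩
      · rintro rfl
        exact no_32 hd
      · rintro rfl
        exact adm_64 (adm_of_mem hd)
    · refine ⟨adm2_of_mem hd, ?_, ?_⟩
      · rintro rfl
        rcases down hd with h | ⟨χ, χ', f, -, h1, -, h2⟩
        · exact no_32 h
        · obtain rfl : f = 16 := by omega
          exact adm_16 (adm_of_mem ⟨χ, h1⟩)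
      · rintro rfl
        rcases down hd with h | ⟨χ, χ', f, -, h1, -, h2⟩
        · exact adm_64 (adm_of_mem h)
        · obtain rfl : f = 32 := by omega
          exact no_32 ⟨χ, h1⟩
  obtain ⟨h1, h2, h3⟩ := key
  have h4 : Nat.beq d 32 = false := by
    rw [← Bool.not_eq_true, Nat.beq_eq]
    exact h2
  have h5 : Nat.beq d 64 = false := by
    rw [← Bool.not_eq_true, Nat.beq_eq]
    exact h3
  rw [ok, h4, h5, List.contains_iff_mem.2 h1]
  rfl

theorem mem_of_ok {d : ℕ} (h : ok d = true) : d ∈ Adm2 := by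
  rw [ok, Bool.and_eq_true, Bool.and_eq_true] at h
  exact List.contains_iff_mem.1 h.1.1

/-- the degrees divide `2 |O'N|` -/
theorem adm_dvd : (Adm2.all fun d => Nat.beq (921631011840 % d) 0) = true := by decide +kernel

/-- no degree is a prime power -/
theorem adm_pp : (Adm2.all fun d => Nat.beq d 1 || !(ok d) || PP.all fun q => PP.any fun r => !(Nat.beq r q) &&
    Nat.beq (d % r) 0) = true := by decide +kernel

theorem alts : ((List.range 13).all fun m => Nat.blt m 5 || (!(ok ((m - 1) * 1)) && !(ok ((m - 1) * 2)) &&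
    !(ok ((m - 1) * 4)))) = true := by decide +kernel

theorem mem_PP {p : ℕ} (hp : p.Prime) (h : p ∣ 921631011840) : p ∈ PP := by
  rw [show 921631011840 = 2 ^ 10 * 3 ^ 4 * 5 * 7 ^ 3 * 11 * 19 * 31 by norm_num,
    hp.dvd_mul, hp.dvd_mul, hp.dvd_mul, hp.dvd_mul, hp.dvd_mul, hp.dvd_mul] at h
  have key : ∀ q : ℕ, q.Prime → q ∈ PP → p ∣ q → p ∈ PP := by
    intro q hq h1 h2
    rw [(Nat.prime_dvd_prime_iff_eq hp hq).1 h2]
    exact h1
  rcases h with (((((h | h) | h) | h) | h) | h) | h
  · exact key 2 (by norm_num) (by decide) (hp.dvd_of_dvd_pow h)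
  · exact key 3 (by norm_num) (by decide) (hp.dvd_of_dvd_pow h)
  · exact key 5 (by norm_num) (by decide) h
  · exact key 7 (by norm_num) (by decide) (hp.dvd_of_dvd_pow h)
  · exact key 11 (by norm_num) (by decide) h
  · exact key 19 (by norm_num) (by decide) h
  · exact key 31 (by norm_num) (by decide) h

theorem not_pp {p k : ℕ} (hp : p.Prime) (hk : 0 < k) (h : ok (p ^ k) = true) : False := by
  have h0 := mem_of_ok h
  have h1 := List.all_eq_true.1 adm_pp _ h0
  have h2 : p ∣ 921631011840 := (dvd_pow_self p hk.ne').trans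
    (Nat.dvd_of_mod_eq_zero (Nat.eq_of_beq_eq_true (List.all_eq_true.1 adm_dvd _ h0)))
  simp only [Bool.or_eq_true, h, Bool.not_true, Bool.false_eq_true, or_false] at h1
  rcases h1 with h1 | h1
  · exact absurd (Nat.eq_of_beq_eq_true h1) (Nat.one_lt_pow hk.ne' hp.one_lt).ne'
  · obtain ⟨r, hr, h3⟩ := List.any_eq_true.1 (List.all_eq_true.1 h1 p (mem_PP hp h2))
    rw [Bool.and_eq_true] at h3
    have h4 := (Nat.prime_dvd_prime_iff_eq (prime_PP r hr) hp).1
      ((prime_PP r hr).dvd_of_dvd_pow (Nat.dvd_of_mod_eq_zero (Nat.eq_of_beq_eq_true h3.2)))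
    have h5 : Nat.beq r p = true := by rw [Nat.beq_eq]; exact h4
    rw [h5] at h3
    exact absurd h3.1 (by decide)

end ON

open ON in
/-- **The box `O'N / SOC1` of S4908.** -/
theorem soc1_on {X : Type v} [Group X] [Finite X] (hX : Spor.IsoON X) (D : Set ℕ) (hD : Deg 2 X D) :
    Soc1.{u} D X := by
  have hok : ∀ d ∈ D, ok d = true := fun d hd => ok_of hX hD hd
  have hdvd : ∀ d ∈ D, d ∣ 921631011840 := fun d hd =>
    Nat.dvd_of_mod_eq_zero (Nat.eq_of_beq_eq_true (List.all_eq_true.1 adm_dvd d (mem_of_ok (hok d hd))))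
  intro A _ _ S hA hAD
  have hs := hA.simple
  have no : ∀ {d : ℕ}, ok d = false → d ∉ D := fun h hd => by rw [hok _ hd] at h; exact absurd h (by decide)
  have kp : ∀ {p : ℕ}, p.Prime → ¬ p ∣ 921631011840 → p ∣ Nat.card S → False :=
    fun hp h1 h2 => H701.S8.kill_prime hA hAD hdvd hp h1 h2
  have k13 : 13 ∣ Nat.card S → False := kp (by norm_num) (by norm_num)
  have k17 : 17 ∣ Nat.card S → False := kp (by norm_num) (by norm_num)
  have k23 : 23 ∣ Nat.card S → False := kp (by norm_num) (by norm_num)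
  rcases PreUniq.known_cases (Cfsg.Agent.S0000.result (G := S)) with h | ⟨m, hm, ⟨e⟩⟩ | ⟨p, hp, h⟩ | h | h
  · exfalso
    have : Fact (Nat.card S).Prime := ⟨h⟩
    have : IsCyclic S := isCyclic_of_prime_card (p := Nat.card S) rfl
    exact hA.nonab inferInstance
  · exfalso
    have h13 : m < 13 := by
      by_contra hcon
      apply k13
      rw [Nat.card_congr e.toEquiv]
      have h1 := H548.RowAlt.card_alt (n := m) (by omega)
      have h2 : 13 ∣ m.factorial := (Nat.Prime.dvd_factorial (by norm_num)).2 (by omega)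
      rw [← h1] at h2
      exact (Nat.Coprime.dvd_mul_left (by norm_num)).1 h2
    obtain ⟨t, ht, htD⟩ := H701.S8.alt hA hAD hm e
    have h1 := List.all_eq_true.1 alts m (List.mem_range.2 h13)
    simp only [Bool.or_eq_true, Bool.and_eq_true, Bool.not_eq_true', Nat.blt_eq] at h1
    rcases h1 with h1 | ⟨⟨h1, h2⟩, h3⟩
    · omega
    · have h4 : t = 1 ∨ t = 2 ∨ t = 4 := by
        have h5 := Nat.le_of_dvd (by norm_num) ht
        interval_cases t <;> simp_all
      rcases h4 with rfl | rfl | rfl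
      · exact no h1 htD
      · exact no h2 htD
      · exact no h3 htD
  · exfalso
    obtain ⟨k, hk, hkD⟩ := H701.S8.lie hA hAD hp h
    exact not_pp hp hk (hok _ hkD)
  · exact (k13 (by rw [NotCT.Orders.tits h]; norm_num)).elim
  · have hi := H149.Sp.card_out_dvd_two h
    have kd : ∀ {d : ℕ}, d ∈ charDegrees S → ok d = false → ok (d * 2) = false → False :=
      fun hd h1 h2 => H701.S8.kill_two hA hAD hi hd (no h1) (no h2)
    rcases h with h | h | h | h | h | h | h | h | h | h | h | h | h | h | h | h | h | h | h | h | h | h | h | h | h | h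
    · exact (kd (d := 10) (H603.FD.Spor.m11 (UGT.End.MEleven.isM11 h)).1 (by decide +kernel) (by decide +kernel)).elim
    · exact (kd (d := 16) (H603.FD.Spor.m12 (H603.FD.Spor.isM12 h)).1 (by decide +kernel) (by decide +kernel)).elim
    · exact (kd (d := 21) (H603.FD.Spor.m22 (H417.RecogMathieu.isM22 h)).1 (by decide +kernel)
        (by decide +kernel)).elim
    · exact (k23 (by rw [NotCT.Orders.m23 h]; norm_num)).elim
    · exact (k23 (by rw [NotCT.Orders.m24 h]; norm_num)).elim
    · refine (kd (d := 56) ?_ (by decide +kernel) (by decide +kernel)).elim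
      rw [H815.S8.J1Deg.charDegrees_eq ⟨hs, NotCT.Orders.j1 h⟩]
      simp
    · exact (kd (d := 36) (H672.SporIM.j2 h).2 (by decide +kernel) (by decide +kernel)).elim
    · exact (k17 (by rw [NotCT.Orders.j3 h]; norm_num)).elim
    · exact (k23 (by rw [NotCT.Orders.j4 h]; norm_num)).elim
    · exact (k13 (by rw [NotCT.Orders.co1 h]; norm_num)).elim
    · exact (k23 (by rw [NotCT.Orders.co2 h]; norm_num)).elim
    · exact (k23 (by rw [NotCT.Orders.co3 h]; norm_num)).elim
    · exact (kd (d := 252) (H424.DegTools.mem_charDegrees.2 (H765.DS.HSMcL.mcl_252 h)) (by decide +kernel)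
        (by decide +kernel)).elim
    · exact (kd (d := 77) (H424.DegTools.mem_charDegrees.2 (H765.DS.HSMcL.hs_77 h)) (by decide +kernel)
        (by decide +kernel)).elim
    · exact (k13 (by rw [NotCT.Orders.suz h]; norm_num)).elim
    · exact (k17 (by rw [NotCT.Orders.he h]; norm_num)).elim
    · exact (k13 (by rw [NotCT.Orders.ru h]; norm_num)).elim
    · obtain ⟨e⟩ := h
      obtain ⟨f⟩ := hX
      exact ⟨e.trans f.symm⟩
    · exact (kp (p := 37) (by norm_num) (by norm_num) (by rw [NotCT.Orders.ly h]; norm_num)).elim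
    · exact (k13 (by rw [NotCT.Orders.fi22 h]; norm_num)).elim
    · exact (k13 (by rw [NotCT.Orders.fi23 h]; norm_num)).elim
    · exact (k13 (by rw [NotCT.Orders.fi24 h]; norm_num)).elim
    · refine (kd (d := 8910) ?_ (by decide +kernel) (by decide +kernel)).elim
      obtain ⟨e⟩ := h
      obtain ⟨χ, hχ⟩ := H492.IMHN.exists_8910
      exact H424.DegTools.charDegrees_of_surjective e.toMonoidHom e.surjective
        (H424.DegTools.mem_charDegrees.2 ⟨χ, χ.2, hχ⟩)
    · exact (k13 (by rw [NotCT.Orders.th h]; norm_num)).elim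
    · exact (k13 (by rw [NotCT.Orders.b h]; norm_num)).elim
    · exact (k13 (by rw [NotCT.Orders.m h]; norm_num)).elim

end Cfsg.Agent.H189.S8
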